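/-
Resolutions by objects of a weak Serre subcategory which are injective in the ambient category.
-/
import Mathlib

universe v u v' u'

open CategoryTheory CategoryTheory.Limits HomologicalComplex

namespace Groth.Agent.InjResSub

section
variable {A : Type u} [Category.{v} A] [Abelian A]

theorem pushout_refine {X Y Z T : A} (f : X ⟶ Y) (g : X ⟶ Z) (x : T ⟶ Y) (c : T ⟶ Z)
    (h : x ≫ pushout.inl f g + c ≫ pushout.inr f g = 0) :
    ∃ (T' : A) (π : T' ⟶ T) (_ : Epi π) (k : T' ⟶ X), π ≫ x = k ≫ f ∧ π ≫ c = -(k ≫ g) := by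
  have hex := (IsPushout.of_hasPushout f g).exact_shortComplex
  obtain ⟨T', π, hπ, k, hk⟩ := (ShortComplex.exact_iff_exact_up_to_refinements _).1 hex
    (biprod.lift x c) (biprod.lift_desc.trans h)
  have hk' : π ≫ biprod.lift x c = k ≫ biprod.lift f (-g) := hk
  refine ⟨T', π, hπ, k, ?_, ?_⟩
  · have := congrArg (fun s => s ≫ biprod.fst) hk'
    simp only [Category.assoc, biprod.lift_fst] at this
    exact this
  · have := congrArg (fun s => s ≫ biprod.snd) hk'
    simp only [Category.assoc, biprod.lift_snd] at this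
    exact this.trans (Preadditive.comp_neg _ _)

theorem pushout_surj {X Y Z T : A} (f : X ⟶ Y) (g : X ⟶ Z) (y : T ⟶ pushout f g) :
    ∃ (T' : A) (π : T' ⟶ T) (_ : Epi π) (x : T' ⟶ Y) (c : T' ⟶ Z),
      π ≫ y = x ≫ pushout.inl f g + c ≫ pushout.inr f g := by
  have : Epi (biprod.desc (pushout.inl f g) (pushout.inr f g)) :=
    (IsPushout.of_hasPushout f g).epi_shortComplex_g
  obtain ⟨T', π, hπ, w, hw⟩ := surjective_up_to_refinements_of_epi (biprod.desc (pushout.inl f g) (pushout.inr f g)) y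
  refine ⟨T', π, hπ, w ≫ biprod.fst, w ≫ biprod.snd, ?_⟩
  rw [hw]
  simp [biprod.desc_eq]

end

variable {A' : Type u'} [Category.{v'} A'] [Abelian A'] {A : Type u} [Category.{v} A] [Abelian A]
  (ι : A' ⥤ A) [ι.Additive] [PreservesFiniteLimits ι] [PreservesFiniteColimits ι] [ι.Full] [ι.Faithful]

section
variable {T : A} {X Y : A'}

theorem ker_cokernel_refine (f : X ⟶ Y) (x : T ⟶ ι.obj Y) (hx : x ≫ ι.map (cokernel.π f) = 0) :
    ∃ (T' : A) (π : T' ⟶ T) (_ : Epi π) (y : T' ⟶ ι.obj X), π ≫ x = y ≫ ι.map f := by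
  have hex : ((ShortComplex.mk f (cokernel.π f) (cokernel.condition f)).map ι).Exact :=
    (ShortComplex.exact_cokernel f).map ι
  exact (ShortComplex.exact_iff_exact_up_to_refinements _).1 hex x hx

end

variable (K : CochainComplex A ℤ)

/-- One stage, living in degree `m`. -/
structure St (m : ℤ) where
  I : A'
  hI : Injective (ι.obj I)
  C : A'
  p : I ⟶ C
  hp : Epi p
  a : K.X m ⟶ ι.obj I
  hc : K.d (m - 1) m ≫ a ≫ ι.map p = 0
  mono : ∀ ⦃T : A⦄ (x : T ⟶ K.X m), x ≫ K.d m (m + 1) = 0 → x ≫ a ≫ ι.map p = 0 →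
    ∃ (T' : A) (π : T' ⟶ T) (_ : Epi π) (y : T' ⟶ K.X (m - 1)), π ≫ x = y ≫ K.d (m - 1) m

variable {ι K}

/-- Compatibility of consecutive stages. -/
structure Link {m m' : ℤ} (s : St ι K m) (s' : St ι K m') (d : s.I ⟶ s'.I) : Prop where
  comm : s.a ≫ ι.map d = K.d m m' ≫ s'.a
  zero : d ≫ s'.p = 0
  fac : ∃ u, s.p ≫ u = d
  epi : ∀ ⦃T : A⦄ (x : T ⟶ ι.obj s.I), x ≫ ι.map d = 0 →
    ∃ (T' : A) (π : T' ⟶ T) (_ : Epi π) (k : T' ⟶ K.X m),
      k ≫ K.d m m' = 0 ∧ π ≫ x ≫ ι.map s.p = k ≫ s.a ≫ ι.map s.p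
  ker : ∀ ⦃T : A⦄ (x : T ⟶ ι.obj s'.I), x ≫ ι.map s'.p = 0 →
    ∃ (T' : A) (π : T' ⟶ T) (_ : Epi π) (y : T' ⟶ ι.obj s.I), π ≫ x = y ≫ ι.map d

variable (hext : ∀ S : ShortComplex A, S.ShortExact → ι.essImage S.X₁ → ι.essImage S.X₃ → ι.essImage S.X₂)
  (hinj : ∀ X' : A', ∃ (Y' : A') (i : X' ⟶ Y'), Mono i ∧ Injective (ι.obj Y'))
  (hH : ∀ i, ι.essImage (K.homology i))

include hext hinj hH in
theorem exists_next {m m' : ℤ} (s : St ι K m) (hm : m + 1 = m') :
    ∃ (s' : St ι K m') (d : s.I ⟶ s'.I), Link s s' d := by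
  subst hm
  have := s.hp
  let ap := s.a ≫ ι.map s.p
  let F := pushout (K.d m (m + 1)) ap
  let e : F ⟶ K.X (m + 1 + 1) := pushout.desc (K.d (m + 1) (m + 1 + 1)) 0 (by simp)
  have hel : pushout.inl (K.d m (m + 1)) ap ≫ e = K.d (m + 1) (m + 1 + 1) := pushout.inl_desc _ _ _
  have her : pushout.inr (K.d m (m + 1)) ap ≫ e = 0 := pushout.inr_desc _ _ _
  let P := kernel e
  let r : ι.obj s.C ⟶ P := kernel.lift e (pushout.inr _ _) (pushout.inr_desc _ _ _)
  -- the image of the homology in `ι C`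
  obtain ⟨H', ⟨eH⟩⟩ := hH m
  have hcm : K.toCycles (m - 1) m ≫ K.iCycles m ≫ ap = 0 := by
    rw [toCycles_i_assoc]; exact s.hc
  let f : K.homology m ⟶ ι.obj s.C :=
    (K.homologyIsCokernel (m - 1) m (by simp)).desc (CokernelCofork.ofπ _ hcm)
  have hf : K.homologyπ m ≫ f = K.iCycles m ≫ ap :=
    (K.homologyIsCokernel (m - 1) m (by simp)).fac _ WalkingParallelPair.one
  obtain ⟨f', hf'⟩ := ι.map_surjective (eH.hom ≫ f)
  have hfr : f ≫ r = 0 := by
    rw [← cancel_epi (K.homologyπ m), reassoc_of% hf, comp_zero, ← cancel_mono (kernel.ι e),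
      Category.assoc, Category.assoc, kernel.lift_ι, zero_comp, ← pushout.condition, iCycles_d_assoc, zero_comp]
  have hrker : ∀ ⦃T : A⦄ (c : T ⟶ ι.obj s.C), c ≫ pushout.inr (K.d m (m + 1)) ap = 0 →
      ∃ (T' : A) (π : T' ⟶ T) (_ : Epi π) (k : T' ⟶ K.X m), k ≫ K.d m (m + 1) = 0 ∧ π ≫ c = k ≫ ap := by
    intro T c hc
    obtain ⟨T', π, hπ, k, hk1, hk2⟩ := pushout_refine (K.d m (m + 1)) ap 0 c (by simpa using hc)
    rw [comp_zero] at hk1
    exact ⟨T', π, hπ, -k, by simp [← hk1], by simp [hk2]⟩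
  -- `P` lies in the essential image
  have hP : ι.essImage P := by
    have hfr' : ι.map f' ≫ r = 0 :=
      (congrArg (· ≫ r) hf').trans ((Category.assoc _ _ _).trans ((congrArg (eH.hom ≫ ·) hfr).trans comp_zero))
    let u : ι.obj (cokernel f') ⟶ P := (PreservesCokernel.iso ι f').hom ≫ cokernel.desc (ι.map f') r hfr'
    have hu : ι.map (cokernel.π f') ≫ u = r := by
      simp [u, reassoc_of% PreservesCokernel.π_iso_hom ι f']
    have hum : Mono u := by
      rw [Preadditive.mono_iff_cancel_zero]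
      intro T y hy
      obtain ⟨T₁, π₁, hπ₁, c, hc⟩ := surjective_up_to_refinements_of_epi (ι.map (cokernel.π f')) y
      obtain ⟨T₂, π₂, hπ₂, k, hk, hkc⟩ := hrker c (by
        rw [show pushout.inr (K.d m (m + 1)) ap = r ≫ kernel.ι e from (kernel.lift_ι _ _ _).symm, ← hu,
          Category.assoc, ← reassoc_of% hc, reassoc_of% hy, zero_comp, comp_zero])
      rw [← cancel_epi π₁, ← cancel_epi π₂, hc, reassoc_of% hkc, comp_zero, comp_zero]
      have : k ≫ ap = (K.liftCycles k (m + 1) (by simp) hk ≫ K.homologyπ m ≫ eH.inv) ≫ ι.map f' := by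
        rw [hf']; simp [hf]
      rw [reassoc_of% this, ← ι.map_comp, cokernel.condition, ι.map_zero, comp_zero, comp_zero, comp_zero]
    let z₁ : K.cycles (m + 1) ⟶ P := kernel.lift e (K.iCycles (m + 1) ≫ pushout.inl _ _) (by simp [hel])
    let w : K.cycles (m + 1) ⟶ cokernel u :=
      z₁ ≫ cokernel.π u
    have hrπ : r ≫ cokernel.π u = 0 :=
      (congrArg (· ≫ cokernel.π u) hu).symm.trans
        ((Category.assoc _ _ _).trans ((congrArg _ (cokernel.condition u)).trans comp_zero))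
    have hwz : K.toCycles m (m + 1) ≫ w = 0 := by
      have : K.toCycles m (m + 1) ≫ z₁ =
          ap ≫ r := by
        rw [← cancel_mono (kernel.ι e)]
        simp [r, z₁, pushout.condition]
      rw [reassoc_of% this, hrπ, comp_zero]
    let h : K.homology (m + 1) ⟶ cokernel u :=
      (K.homologyIsCokernel m (m + 1) (by simp)).desc (CokernelCofork.ofπ _ hwz)
    have hw : K.homologyπ (m + 1) ≫ h = w :=
      (K.homologyIsCokernel m (m + 1) (by simp)).fac _ WalkingParallelPair.one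
    have hwe : Epi h := by
      rw [epi_iff_surjective_up_to_refinements]
      intro T y
      obtain ⟨T₁, π₁, hπ₁, z, hz⟩ := surjective_up_to_refinements_of_epi (cokernel.π u) y
      obtain ⟨T₂, π₂, hπ₂, x, c, hxc⟩ := pushout_surj (K.d m (m + 1)) ap (z ≫ kernel.ι e)
      have hx : x ≫ K.d (m + 1) (m + 1 + 1) = 0 := by
        have := congrArg (fun t => t ≫ e) hxc
        simpa [hel, her] using this.symm
      have hz' : π₂ ≫ z = K.liftCycles x (m + 1 + 1) (by simp) hx ≫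
          z₁ + c ≫ r := by
        rw [← cancel_mono (kernel.ι e)]
        simp [r, z₁, hxc]
      refine ⟨T₂, π₂ ≫ π₁, inferInstance, K.liftCycles x (m + 1 + 1) (by simp) hx ≫ K.homologyπ (m + 1), ?_⟩
      rw [Category.assoc, hz, Category.assoc, hw, reassoc_of% hz']
      simp [w, hrπ]
    have hwm : Mono h := by
      rw [Preadditive.mono_iff_cancel_zero]
      intro T y hy
      obtain ⟨T₁, π₁, hπ₁, x, hx⟩ := surjective_up_to_refinements_of_epi (K.homologyπ (m + 1)) y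
      obtain ⟨T₂, π₂, hπ₂, c₁, hc₁⟩ := (ShortComplex.exact_iff_exact_up_to_refinements _).1
        (ShortComplex.exact_cokernel u)
        (x ≫ z₁) (by
          show _ ≫ cokernel.π u = 0
          rw [Category.assoc, show _ ≫ cokernel.π u = w from rfl, ← hw, ← reassoc_of% hx, hy, comp_zero])
      dsimp at hc₁
      obtain ⟨T₃, π₃, hπ₃, c, hc⟩ := surjective_up_to_refinements_of_epi (ι.map (cokernel.π f')) c₁
      obtain ⟨T₄, π₄, hπ₄, k, hk, -⟩ := pushout_refine (K.d m (m + 1)) ap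
        (π₃ ≫ π₂ ≫ x ≫ K.iCycles (m + 1)) (-c) (by
          have : π₃ ≫ π₂ ≫ x ≫ z₁ =
              c ≫ r := by
            rw [hc₁, reassoc_of% hc, hu]
          have := congrArg (fun t => t ≫ kernel.ι e) this
          simp only [Category.assoc, kernel.lift_ι, r, z₁] at this
          simp [this])
      rw [← cancel_epi π₁, ← cancel_epi π₂, ← cancel_epi π₃, ← cancel_epi π₄, hx, comp_zero, comp_zero,
        comp_zero, comp_zero]
      have : π₄ ≫ π₃ ≫ π₂ ≫ x = k ≫ K.toCycles m (m + 1) := by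
        rw [← cancel_mono (K.iCycles (m + 1))]
        simpa using hk
      rw [reassoc_of% this, toCycles_comp_homologyπ, comp_zero]
    have : IsIso h := isIso_of_mono_of_epi h
    exact hext (ShortComplex.mk u (cokernel.π u) (cokernel.condition u))
      { exact := ShortComplex.exact_cokernel u } (ι.obj_mem_essImage _)
      (ι.essImage.prop_of_iso (asIso h) (hH (m + 1)))
  obtain ⟨P', ⟨eP⟩⟩ := hP
  obtain ⟨Y', j, hj, hY'⟩ := hinj P'
  let g : F ⟶ ι.obj Y' := Injective.factorThru (eP.inv ≫ ι.map j) (kernel.ι e)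
  have hg : kernel.ι e ≫ g = eP.inv ≫ ι.map j := Injective.comp_factorThru _ _
  have hgm : ∀ ⦃T : A⦄ (y : T ⟶ F), y ≫ e = 0 → y ≫ g = 0 → y = 0 := by
    intro T y hy hyg
    rw [← kernel.lift_ι e y hy, Category.assoc, hg] at hyg
    rw [← kernel.lift_ι e y hy]
    have : Mono (eP.inv ≫ ι.map j) := inferInstance
    rw [(Preadditive.mono_iff_cancel_zero _).1 this _ _ hyg, zero_comp]
  obtain ⟨dC, hdC⟩ := ι.map_surjective (pushout.inr _ _ ≫ g : ι.obj s.C ⟶ ι.obj Y')
  have hc' : K.d (m + 1 - 1) (m + 1) ≫ (pushout.inl _ _ ≫ g : K.X (m + 1) ⟶ ι.obj Y') ≫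
      ι.map (cokernel.π dC) = 0 := by
    rw [show m + 1 - 1 = m by omega]
    simp only [Category.assoc]
    rw [← Category.assoc (K.d m (m + 1)), pushout.condition, Category.assoc, ← reassoc_of% hdC, ← ι.map_comp,
      cokernel.condition, ι.map_zero, comp_zero]
  have hmono' : ∀ ⦃T : A⦄ (x : T ⟶ K.X (m + 1)), x ≫ K.d (m + 1) (m + 1 + 1) = 0 →
      x ≫ (pushout.inl _ _ ≫ g : K.X (m + 1) ⟶ ι.obj Y') ≫ ι.map (cokernel.π dC) = 0 →
      ∃ (T' : A) (π : T' ⟶ T) (_ : Epi π) (y : T' ⟶ K.X (m + 1 - 1)), π ≫ x = y ≫ K.d (m + 1 - 1) (m + 1) := by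
    intro T x hx hxa
    obtain ⟨T₁, π₁, hπ₁, c, hc⟩ := ker_cokernel_refine ι dC (x ≫ pushout.inl _ _ ≫ g)
      (by simpa using hxa)
    rw [hdC] at hc
    have hy : π₁ ≫ x ≫ pushout.inl _ _ - c ≫ pushout.inr _ _ = (0 : T₁ ⟶ F) := hgm _
      (by simp [hel, her, hx]) (by simp [hc])
    obtain ⟨T₂, π₂, hπ₂, k, hk, -⟩ := pushout_refine (K.d m (m + 1)) ap (π₁ ≫ x) (-c)
      (by simpa [sub_eq_add_neg] using hy)
    rw [show m + 1 - 1 = m by omega]
    exact ⟨T₂, π₂ ≫ π₁, inferInstance, k, by rw [Category.assoc, hk]⟩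
  refine ⟨{ I := Y', hI := hY', C := cokernel dC, p := cokernel.π dC, hp := inferInstance
            a := pushout.inl _ _ ≫ g, hc := hc', mono := hmono' }, s.p ≫ dC, ⟨?_, ?_, ⟨_, rfl⟩, ?_, ?_⟩⟩
  · rw [ι.map_comp, hdC, pushout.condition_assoc]
    exact (Category.assoc _ _ _).symm
  · simp
  · intro T x hx
    rw [ι.map_comp, hdC] at hx
    have hy : x ≫ ι.map s.p ≫ pushout.inr _ _ = (0 : T ⟶ F) := hgm _ (by simp [her]) (by simpa using hx)
    obtain ⟨T', π, hπ, k, hk, hk'⟩ := hrker (x ≫ ι.map s.p) (by simpa using hy)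
    exact ⟨T', π, hπ, k, hk, hk'⟩
  · intro T x hx
    obtain ⟨T₁, π₁, hπ₁, c, hc⟩ := ker_cokernel_refine ι dC x hx
    obtain ⟨T₂, π₂, hπ₂, y, hy⟩ := surjective_up_to_refinements_of_epi (ι.map s.p) c
    exact ⟨T₂, π₂ ≫ π₁, inferInstance, y, by rw [Category.assoc, hc, reassoc_of% hy, ι.map_comp]⟩

end Groth.Agent.InjResSub
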