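import Groth.Agent.InjResSub.Basic

universe v u v' u' w w'

open CategoryTheory CategoryTheory.Limits HomologicalComplex

namespace Groth.Agent.InjResSub

variable {A' : Type u'} [Category.{v'} A'] [Abelian A'] {A : Type u} [Category.{v} A] [Abelian A]
  {ι : A' ⥤ A} [ι.Additive] [PreservesFiniteLimits ι] [PreservesFiniteColimits ι] [ι.Full] [ι.Faithful]
  {K : CochainComplex A ℤ}

open ZeroObject in
/-- the trivial stage -/
noncomputable def trivSt (a : ℤ) [K.IsStrictlyGE a] (m : ℤ) (hm : m < a) : St ι K m where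
  I := 0
  hI := ⟨fun g f _ => ⟨0, (ι.map_isZero (isZero_zero A')).eq_of_tgt _ _⟩⟩
  C := 0
  p := 𝟙 _
  hp := inferInstance
  a := 0
  hc := by simp
  mono := fun T x _ _ => ⟨T, 𝟙 _, inferInstance, 0,
    (K.isZero_of_isStrictlyGE a m hm).eq_of_tgt _ _⟩

variable (hext : ∀ S : ShortComplex A, S.ShortExact → ι.essImage S.X₁ → ι.essImage S.X₃ → ι.essImage S.X₂)
  (hinj : ∀ X' : A', ∃ (Y' : A') (i : X' ⟶ Y'), Mono i ∧ Injective (ι.obj Y'))
  (hH : ∀ i, ι.essImage (K.homology i))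

/-- all stages -/
noncomputable def stageAt (a : ℤ) [K.IsStrictlyGE a] : ∀ (k : ℕ) (m : ℤ), m < a + k → St ι K m
  | 0, m, h => trivSt a m (by simpa using h)
  | k + 1, m, h => (exists_next hext hinj hH (stageAt a k (m - 1) (by omega)) (sub_add_cancel m 1)).choose

lemma stageAt_congr (a : ℤ) [K.IsStrictlyGE a] {k k' : ℕ} (hk : k = k') (m : ℤ) (h : m < a + k)
    (h' : m < a + k') : stageAt hext hinj hH a k m h = stageAt hext hinj hH a k' m h' := by
  subst hk; rfl

include hext hinj hH in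
theorem exists_resolution (a : ℤ) [K.IsStrictlyGE a] :
    ∃ (I : CochainComplex A' ℤ) (α : K ⟶ (ι.mapHomologicalComplex (ComplexShape.up ℤ)).obj I),
      I.IsStrictlyGE a ∧ (∀ n, Injective (ι.obj (I.X n))) ∧ QuasiIso α := by
  let S : ∀ m, St ι K m := fun m => stageAt hext hinj hH a (m + 1 - a).toNat m (by omega)
  have hzero : ∀ m, m < a → IsZero (S m).I := fun m hm => by
    simp only [S]
    rw [stageAt_congr hext hinj hH a (show (m + 1 - a).toNat = 0 by omega) m _ (by simpa using hm)]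
    exact isZero_zero A'
  have hlink : ∀ m, ∃ d, Link (S m) (S (m + 1)) d := by
    suffices ∀ m m', m' - 1 = m → ∃ d, Link (S m) (S m') d from fun m => this m (m + 1) (by omega)
    intro m m' e
    subst e
    by_cases hm : m' < a
    · have hK : IsZero (K.X (m' - 1)) := K.isZero_of_isStrictlyGE a _ (by omega)
      refine ⟨0, ⟨hK.eq_of_src _ _, zero_comp, ⟨0, comp_zero⟩, fun T x _ => ?_, fun T x _ => ?_⟩⟩
      · exact ⟨T, 𝟙 T, inferInstance, 0, zero_comp,
          by rw [(ι.map_isZero (hzero (m' - 1) (by omega))).eq_of_tgt x 0]; simp⟩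
      · exact ⟨T, 𝟙 T, inferInstance, 0, (ι.map_isZero (hzero m' hm)).eq_of_tgt _ _⟩
    · simp only [S]
      rw [stageAt_congr hext hinj hH a
        (show (m' + 1 - a).toNat = (m' - 1 + 1 - a).toNat + 1 by omega) m' _ (by omega)]
      exact (exists_next hext hinj hH _ (sub_add_cancel m' 1)).choose_spec
  choose d hd using hlink
  let I : CochainComplex A' ℤ := CochainComplex.of (fun m => (S m).I) d fun m => by
    obtain ⟨u, hu⟩ := (hd (m + 1)).fac
    rw [← hu, reassoc_of% (hd m).zero, zero_comp]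
  have hId : ∀ m, I.d m (m + 1) = d m := fun m => by simp [I]
  let α : K ⟶ (ι.mapHomologicalComplex (ComplexShape.up ℤ)).obj I :=
    { f := fun m => (S m).a
      comm' := fun i j (hij : i + 1 = j) => by
        subst hij
        show (S i).a ≫ ι.map (I.d i (i + 1)) = _
        rw [hId]
        exact (hd i).comm }
  refine ⟨I, α, ?_, fun n => (S n).hI, ?_⟩
  · rw [CochainComplex.isStrictlyGE_iff]
    exact fun i hi => hzero i hi
  rw [quasiIso_iff]
  intro j
  rw [quasiIsoAt_iff_isIso_homologyMap]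
  obtain ⟨i, rfl⟩ : ∃ i, j = i + 1 := ⟨j - 1, by omega⟩
  have hd' : ∀ m, ((ι.mapHomologicalComplex (ComplexShape.up ℤ)).obj I).d m (m + 1) = ι.map (d m) := fun m => by
    show ι.map (I.d m (m + 1)) = _
    rw [hId]
  have hmono : Mono (homologyMap α (i + 1)) := by
    rw [mono_homologyMap_iff_up_to_refinements α i (i + 1) (i + 1 + 1) (by simp) (by simp)]
    intro T x hx y hy
    replace hy : x ≫ (S (i + 1)).a = (show T ⟶ ι.obj (S i).I from y) ≫ ι.map (d i) := by
      rw [← hd']; exact hy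
    obtain ⟨T', π, hπ, z, hz⟩ := (S (i + 1)).mono x hx (by
      rw [reassoc_of% hy, ← ι.map_comp, (hd i).zero, ι.map_zero, comp_zero])
    revert z
    rw [show i + 1 - 1 = i by omega]
    intro z hz
    exact ⟨T', π, hπ, z, hz⟩
  have hepi : Epi (homologyMap α (i + 1)) := by
    rw [epi_homologyMap_iff_up_to_refinements α i (i + 1) (i + 1 + 1) (by simp) (by simp)]
    intro T y hy
    have key : ∀ (y : T ⟶ ι.obj (S (i + 1)).I), y ≫ ι.map (d (i + 1)) = 0 →
        ∃ (T' : A) (π : T' ⟶ T) (_ : Epi π) (k : T' ⟶ K.X (i + 1)) (_ : k ≫ K.d (i + 1) (i + 1 + 1) = 0)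
          (z : T' ⟶ ι.obj (S i).I), π ≫ y = k ≫ (S (i + 1)).a + z ≫ ι.map (d i) := by
      intro y hy
      obtain ⟨T₁, π₁, hπ₁, k, hk, hk'⟩ := (hd (i + 1)).epi y hy
      obtain ⟨T₂, π₂, hπ₂, z, hz⟩ := (hd i).ker (π₁ ≫ y - k ≫ (S (i + 1)).a) (by simp [hk'])
      exact ⟨T₂, π₂ ≫ π₁, inferInstance, π₂ ≫ k, by rw [Category.assoc, hk, comp_zero], z, by
        rw [← hz]; simp⟩
    obtain ⟨T', π, hπ, k, hk, z, hz⟩ := key y (by rw [← hd']; exact hy)
    refine ⟨T', π, hπ, k, hk, z, ?_⟩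
    rw [hd']
    exact hz
  exact isIso_of_mono_of_epi _

include hext hinj in
theorem exists_iso [HasDerivedCategory.{w'} A'] [HasDerivedCategory.{w} A] (Z : DerivedCategory A) (a : ℤ)
    [Z.IsGE a] (hZ : ∀ i : ℤ, ι.essImage ((DerivedCategory.homologyFunctor A i).obj Z)) :
    ∃ (I : CochainComplex A' ℤ), I.IsStrictlyGE a ∧ (∀ n : ℤ, Injective (ι.obj (I.X n))) ∧
      Nonempty (ι.mapDerivedCategory.obj (DerivedCategory.Q.obj I) ≅ Z) := by
  obtain ⟨K, hK, ⟨e⟩⟩ := DerivedCategory.exists_iso_Q_obj_of_isGE Z a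
  have hH : ∀ i, ι.essImage (K.homology i) := fun i =>
    ι.essImage.prop_of_iso ((DerivedCategory.homologyFunctor A i).mapIso e ≪≫
      (DerivedCategory.homologyFunctorFactors A i).app K) (hZ i)
  obtain ⟨I, α, h1, h2, h3⟩ := exists_resolution hext hinj hH a
  exact ⟨I, h1, h2, ⟨ι.mapDerivedCategoryFactors.app I ≪≫ (asIso (DerivedCategory.Q.map α)).symm ≪≫ e.symm⟩⟩

end Groth.Agent.InjResSub
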